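import Mathlib

/-!
# Noetherian objects in abelian categories
-/

set_option autoImplicit false
set_option linter.style.haveILetI false

universe w v u v' u'

open CategoryTheory CategoryTheory.Limits

namespace GrothTransLib

variable {C : Type u} [Category.{v} C] [Abelian C]

theorem wellFoundedGT_of_eq_of_le {α : Type*} {β : Type*} [PartialOrder α] [PartialOrder β]
    [WellFoundedGT β] (φ : α → β) (hmono : ∀ a b, a ≤ b → φ a ≤ φ b)
    (h : ∀ a b, a ≤ b → φ a = φ b → a = b) : WellFoundedGT α :=
  StrictMono.wellFoundedGT (f := φ) fun a b hab =>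
    lt_of_le_of_ne (hmono a b hab.le) fun e => hab.ne (h a b hab.le e)

/-- An extension of noetherian objects is noetherian. -/
theorem isNoetherianObject_of_hom {X Y : C} (p : X ⟶ Y) [IsNoetherianObject (kernel p)]
    [IsNoetherianObject Y] : IsNoetherianObject X := by
  let φ : Subobject X → Subobject (kernel p) × Subobject Y := fun s =>
    ((Subobject.pullback (kernel.ι p)).obj s, imageSubobject (s.arrow ≫ p))
  suffices h : WellFoundedGT (Subobject X) by
    rw [IsNoetherianObject, ObjectProperty.is_iff]; exact h
  refine wellFoundedGT_of_eq_of_le φ (fun a b hab => Prod.mk_le_mk.2 ⟨(Subobject.pullback _).monotone hab, ?_⟩) ?_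
  · change imageSubobject (a.arrow ≫ p) ≤ imageSubobject (b.arrow ≫ p)
    rw [← Subobject.ofLE_arrow hab, Category.assoc]
    exact imageSubobject_comp_le _ _
  · intro a b hab e
    obtain ⟨e₁, e₂⟩ := Prod.mk.inj e
    let i := Subobject.ofLE a b hab
    let c := cokernel.π i
    let k := kernel.ι (b.arrow ≫ p)
    have hk : k ≫ c = 0 := by
      let l : kernel (b.arrow ≫ p) ⟶ kernel p :=
        kernel.lift p (k ≫ b.arrow) (by rw [Category.assoc, kernel.condition])
      have hl : ((Subobject.pullback (kernel.ι p)).obj b).Factors l := by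
        refine (Subobject.factors_iff _ _).2 ⟨?_, ?_⟩
        · exact (Subobject.isPullback (kernel.ι p) b).lift k l (by simp [l])
        · exact (Subobject.isPullback (kernel.ι p) b).lift_snd _ _ _
      rw [← e₁] at hl
      let q := Subobject.factorThru _ l hl ≫ Subobject.pullbackπ (kernel.ι p) a
      have hq : q ≫ i = k := by
        rw [← cancel_mono b.arrow, Category.assoc, Subobject.ofLE_arrow, Category.assoc,
          (Subobject.isPullback (kernel.ι p) a).w, ← Category.assoc,
          Subobject.factorThru_arrow, kernel.lift_ι]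
      rw [← hq, Category.assoc, cokernel.condition, comp_zero]
    let θ := factorThruImageSubobject (b.arrow ≫ p)
    have hθw : k ≫ θ = 0 := by
      rw [← cancel_mono (imageSubobject (b.arrow ≫ p)).arrow, Category.assoc,
        imageSubobject_arrow_comp, kernel.condition, zero_comp]
    have hex : (ShortComplex.mk k θ hθw).Exact := by
      refine ShortComplex.exact_of_f_is_kernel _ ?_
      exact isKernelOfComp (imageSubobject (b.arrow ≫ p)).arrow (b.arrow ≫ p)
        (kernelIsKernel _) hθw (imageSubobject_arrow_comp _)
    obtain ⟨d, hd⟩ := CokernelCofork.IsColimit.desc' hex.gIsCokernel c hk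
    change θ ≫ d = c at hd
    let θa := factorThruImageSubobject (a.arrow ≫ p)
    have hcomp : i ≫ θ = θa ≫ Subobject.ofLE _ _ e₂.le := by
      rw [← cancel_mono (imageSubobject (b.arrow ≫ p)).arrow]
      simp [θ, θa, i]
    have hd0 : θa ≫ Subobject.ofLE _ _ e₂.le ≫ d = 0 := by
      rw [← Category.assoc, ← hcomp, Category.assoc, hd, cokernel.condition]
    have : IsIso (Subobject.ofLE (imageSubobject (a.arrow ≫ p)) (imageSubobject (b.arrow ≫ p)) e₂.le) :=
      ⟨Subobject.ofLE _ _ e₂.ge, Subobject.ofLE_comp_ofLE _ _ _ _ _ |>.trans (Subobject.ofLE_refl _),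
        Subobject.ofLE_comp_ofLE _ _ _ _ _ |>.trans (Subobject.ofLE_refl _)⟩
    have hd' : d = 0 := by
      have := (cancel_epi θa).1 (hd0.trans comp_zero.symm)
      exact (cancel_epi (Subobject.ofLE _ _ e₂.le)).1 (this.trans comp_zero.symm)
    haveI : Epi i := Preadditive.epi_of_isZero_cokernel' _ (cokernelIsCokernel i)
      (IsZero.of_epi_eq_zero c (by rw [← hd, hd', comp_zero]))
    haveI : IsIso i := isIso_of_mono_of_epi i
    exact le_antisymm hab (Subobject.le_of_comm (inv i) (by simp [i]))

theorem isNoetherianObject_of_epi {X Y : C} (p : X ⟶ Y) [Epi p] [IsNoetherianObject X] :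
    IsNoetherianObject Y := by
  suffices h : WellFoundedGT (Subobject Y) by
    rw [IsNoetherianObject, ObjectProperty.is_iff]; exact h
  refine wellFoundedGT_of_eq_of_le (fun s => (Subobject.pullback p).obj s)
    (fun a b hab => (Subobject.pullback p).monotone hab) fun a b hab e => ?_
  refine le_antisymm hab ?_
  have hp := Subobject.isPullback p b
  haveI : Epi (Subobject.pullbackπ p b) := by
    rw [← hp.isoPullback_hom_fst]
    infer_instance
  let i := Subobject.ofLE a b hab
  let l := Subobject.ofLE _ _ e.ge ≫ Subobject.pullbackπ p a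
  have hl : l ≫ i = Subobject.pullbackπ p b := by
    rw [← cancel_mono b.arrow, Category.assoc, Subobject.ofLE_arrow, Category.assoc,
      (Subobject.isPullback p a).w, ← Category.assoc, Subobject.ofLE_arrow, hp.w]
  haveI : Epi i := epi_of_epi_fac hl
  haveI : IsIso i := isIso_of_mono_of_epi i
  exact Subobject.le_of_comm (inv i) (by simp [i])

theorem isNoetherianObject_coprod {X Y : C} [IsNoetherianObject X] [IsNoetherianObject Y] :
    IsNoetherianObject (X ⊞ Y) := by
  haveI : IsNoetherianObject (kernel (biprod.snd : X ⊞ Y ⟶ Y)) :=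
    isNoetherianObject_of_mono kernelBiprodSndIso.hom
  exact isNoetherianObject_of_hom (biprod.snd : X ⊞ Y ⟶ Y)

theorem isNoetherianObject_sup {X : C} (P Q : Subobject X) [IsNoetherianObject (P : C)]
    [IsNoetherianObject (Q : C)] : IsNoetherianObject ((P ⊔ Q : Subobject X) : C) := by
  haveI := isNoetherianObject_coprod (X := (P : C)) (Y := (Q : C))
  let f := biprod.desc P.arrow Q.arrow
  have hle : P ⊔ Q ≤ imageSubobject f := sup_le
    (Subobject.le_of_comm (biprod.inl ≫ factorThruImageSubobject f) (by simp [f]))
    (Subobject.le_of_comm (biprod.inr ≫ factorThruImageSubobject f) (by simp [f]))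
  haveI : IsNoetherianObject ((imageSubobject f : Subobject X) : C) :=
    isNoetherianObject_of_epi (factorThruImageSubobject f)
  exact isNoetherianObject_of_mono (Subobject.ofLE _ _ hle)

end GrothTransLib
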