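import Mathlib
import Groth.Agent.GrothTransLib.Noeth

/-!
# Transfer of Grothendieck axioms along a faithful exact left adjoint
-/

set_option autoImplicit false
set_option linter.style.haveILetI false

universe w u₁ u₂

open CategoryTheory CategoryTheory.Limits

namespace GrothTransLib

attribute [local instance] IsFiltered.isConnected

section Union

variable {B : Type u₂} [Category.{w} B] [Abelian B] [HasColimitsOfSize.{w, w} B]
  [AB5OfSize.{w, w} B] {ι : Type w} (s : ι → B) (X : B)

/-- The union of the images of finitely many morphisms from the `s i`. -/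
noncomputable def img (T : Finset (Σ i, s i ⟶ X)) : Subobject X :=
  T.sup fun x => imageSubobject x.2

theorem img_mono : Monotone (img s X) := fun _ _ h => Finset.sup_mono h

theorem factors_img {T : Finset (Σ i, s i ⟶ X)} {x : Σ i, s i ⟶ X} (hx : x ∈ T) :
    ∃ l : s x.1 ⟶ (img s X T : B), l ≫ (img s X T).arrow = x.2 :=
  ⟨factorThruImageSubobject x.2 ≫ Subobject.ofLE _ _ (Finset.le_sup (f := fun y : Σ i, s i ⟶ X =>
    imageSubobject y.2) hx), by simp⟩

/-- The filtered diagram of the `img`. -/
noncomputable def diag : Finset (Σ i, s i ⟶ X) ⥤ B :=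
  (img_mono s X).functor ⋙ Subobject.underlying

/-- The cocone with point `X` on the diagram. -/
noncomputable def cc : Cocone (diag s X) :=
  Cocone.mk X
    { app := fun T => (img s X T).arrow
      naturality := fun T T' h => by
        dsimp [diag]
        simp }

variable {s} in
/-- `X` is the union of its `img`s. -/
noncomputable def isColimitCc
    (hsep : ∀ ⦃X Y : B⦄ (f g : X ⟶ Y), (∀ (i : ι) (h : s i ⟶ X), h ≫ f = h ≫ g) → f = g) :
    IsColimit (cc s X) :=
  have h₁ : Mono ((colimit.isColimit (diag s X)).desc (cc s X)) := by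
    let α : diag s X ⟶ (Functor.const _).obj X := (cc s X).ι
    have : ∀ T, Mono (α.app T) := fun T => inferInstanceAs (Mono (img s X T).arrow)
    have := NatTrans.mono_of_mono_app α
    exact colim.map_mono' α (colimit.isColimit _) (isColimitConstCocone _ X) _
      (fun T => ((colimit.isColimit (diag s X)).fac (cc s X) T).trans (Category.comp_id _).symm)
  have h₂ : Epi ((colimit.isColimit (diag s X)).desc (cc s X)) := ⟨fun {Y} (f g : X ⟶ Y) hfg => by
    refine hsep f g fun i (x : s i ⟶ X) => ?_
    obtain ⟨l, hl⟩ := factors_img s X (Finset.mem_singleton_self (⟨i, x⟩ : Σ i, s i ⟶ X))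
    have := (colimit.isColimit (diag s X)).fac (cc s X) {⟨i, x⟩}
    change x ≫ f = x ≫ g
    dsimp at hl
    have e : (cc s X).ι.app {⟨i, x⟩} ≫ f = (cc s X).ι.app {⟨i, x⟩} ≫ g := by
      rw [← this, Category.assoc, Category.assoc, hfg]
    rw [← hl, Category.assoc, Category.assoc]
    exact congrArg (l ≫ ·) e⟩
  haveI := isIso_of_mono_of_epi ((colimit.isColimit (diag s X)).desc (cc s X))
  IsColimit.ofPointIso (colimit.isColimit (diag s X))

theorem isNoetherianObject_img (hsN : ∀ i, IsNoetherianObject (s i))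
    (T : Finset (Σ i, s i ⟶ X)) : IsNoetherianObject (img s X T : B) := by
  classical
  induction T using Finset.induction_on with
  | empty =>
    exact isNoetherianObject_of_isZero
      (IsZero.of_iso (isZero_zero B) Subobject.botCoeIsoZero)
  | @insert x T hx ih =>
    rw [img, Finset.sup_insert]
    haveI := hsN x.1
    haveI : IsNoetherianObject ((imageSubobject x.2 : Subobject X) : B) :=
      isNoetherianObject_of_epi (factorThruImageSubobject x.2)
    haveI : IsNoetherianObject ((T.sup fun y => imageSubobject y.2 : Subobject X) : B) := ih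
    exact isNoetherianObject_sup _ _

theorem exists_epi_img (T : Finset (Σ i, s i ⟶ X)) :
    ∃ (nk : Σ n : ℕ, Fin n → ι) (l : (∐ fun j => s (nk.2 j)) ⟶ (img s X T : B)), Epi l := by
  let e := T.equivFin
  let k : Fin T.card → ι := fun j => (e.symm j).1.1
  choose l hl using fun j => factors_img s X (e.symm j).2
  let L : (∐ fun j => s (k j)) ⟶ (img s X T : B) := Sigma.desc l
  refine ⟨⟨T.card, k⟩, L, ?_⟩
  have hle : img s X T ≤ imageSubobject (L ≫ (img s X T).arrow) := by
    refine Finset.sup_le fun x hx => ?_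
    obtain ⟨j, rfl⟩ : ∃ j, (e.symm j).1 = x := ⟨e ⟨x, hx⟩, by simp⟩
    exact imageSubobject_le _
      (Sigma.ι (fun j => s (k j)) j ≫ factorThruImageSubobject _) (by simp [L, k, hl])
  have hle' : imageSubobject (L ≫ (img s X T).arrow) ≤ img s X T :=
    imageSubobject_le _ L rfl
  have hiso : IsIso (Subobject.ofLE _ _ hle') :=
    ⟨Subobject.ofLE _ _ hle, (Subobject.ofLE_comp_ofLE _ _ _ _ _).trans (Subobject.ofLE_refl _),
      (Subobject.ofLE_comp_ofLE _ _ _ _ _).trans (Subobject.ofLE_refl _)⟩
  have hL : L = factorThruImageSubobject (L ≫ (img s X T).arrow) ≫ Subobject.ofLE _ _ hle' := by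
    rw [← cancel_mono (img s X T).arrow]
    simp
  rw [hL]
  infer_instance

end Union

section Reflect

variable {A : Type u₁} [Category.{w} A] [Abelian A] {B : Type u₂} [Category.{w} B] [Abelian B]
  (F : A ⥤ B) [F.Additive] [F.Faithful] [PreservesFiniteLimits F]

/-- The image of a subobject under an exact functor. -/
noncomputable def mapSub (a : A) (P : Subobject a) : Subobject (F.obj a) :=
  Subobject.mk (F.map P.arrow)

theorem le_of_mapSub_le {a : A} {P Q : Subobject a} (h : mapSub F a P ≤ mapSub F a Q) :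
    P ≤ Q := by
  have h0 : P.arrow ≫ cokernel.π Q.arrow = 0 := by
    apply F.map_injective
    have e : Subobject.ofMkLEMk _ _ h ≫ F.map Q.arrow = F.map P.arrow :=
      Subobject.ofMkLEMk_comp h
    rw [F.map_comp, ← e, Category.assoc, ← F.map_comp, cokernel.condition, F.map_zero,
      comp_zero, F.map_zero]
  exact Subobject.le_of_comm (Abelian.monoLift Q.arrow P.arrow h0)
    (Abelian.monoLift_comp _ _ h0)

theorem mapSub_injective (a : A) : Function.Injective (mapSub F a) := fun _ _ h =>
  le_antisymm (le_of_mapSub_le F h.le) (le_of_mapSub_le F h.ge)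

theorem mapSub_mono (a : A) : Monotone (mapSub F a) := fun P Q h =>
  Subobject.mk_le_mk_of_comm (F.map (Subobject.ofLE P Q h))
    (by rw [← F.map_comp, Subobject.ofLE_arrow])

theorem isNoetherianObject_of_map (a : A) [IsNoetherianObject (F.obj a)] :
    IsNoetherianObject a := by
  suffices h : WellFoundedGT (Subobject a) by
    rw [IsNoetherianObject, ObjectProperty.is_iff]; exact h
  exact wellFoundedGT_of_eq_of_le (mapSub F a) (fun _ _ h => mapSub_mono F a h)
    (fun _ _ _ e => mapSub_injective F a e)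

include F in
theorem wellPowered_of_faithful [WellPowered.{w} B] : WellPowered.{w} A where
  subobject_small a := small_of_injective (mapSub_injective F a)

theorem ab5_of_faithful [HasColimitsOfSize.{w, w} A] [HasColimitsOfSize.{w, w} B]
    [AB5OfSize.{w, w} B] [PreservesFiniteColimits F] [PreservesColimitsOfSize.{w, w} F] :
    AB5OfSize.{w, w} A := by
  haveI : F.ReflectsIsomorphisms := reflectsIsomorphisms_of_reflectsMonomorphisms_of_reflectsEpimorphisms F
  haveI : ReflectsFiniteLimits F := ⟨fun J _ _ =>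
    reflectsLimitsOfShape_of_reflectsIsomorphisms⟩
  exact ⟨fun J _ _ => HasExactColimitsOfShape.domain_of_functor J F⟩

end Reflect

section Transfer

variable {A : Type u₁} [Category.{w} A] [Abelian A]
  {B : Type u₂} [Category.{w} B] [Abelian B]
  [HasColimitsOfSize.{w, w} B] [AB5OfSize.{w, w} B] {ι : Type w} (s : ι → B)
  {F : A ⥤ B} {G : B ⥤ A} (adj : F ⊣ G)

/-- The part of `a` lying over finitely many morphisms `s i ⟶ F a`. -/
noncomputable abbrev piece (a : A) (T : Finset (Σ i, s i ⟶ F.obj a)) : A :=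
  pullback (G.map (img s (F.obj a) T).arrow) (adj.unit.app a)

variable [F.Faithful] [PreservesFiniteLimits F]

include adj in
theorem mono_unit (a : A) : Mono (adj.unit.app a) := by
  apply F.mono_of_mono_map
  exact (IsSplitMono.mk' ⟨adj.counit.app _, adj.left_triangle_components a⟩).mono

/-- The comparison morphism from a piece. -/
noncomputable def toImg (a : A) (T : Finset (Σ i, s i ⟶ F.obj a)) :
    F.obj (piece s adj a T) ⟶ (img s (F.obj a) T : B) :=
  F.map (pullback.fst _ _) ≫ adj.counit.app _

theorem toImg_arrow (a : A) (T : Finset (Σ i, s i ⟶ F.obj a)) :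
    toImg s adj a T ≫ (img s (F.obj a) T).arrow = F.map (pullback.snd _ _) := by
  unfold toImg
  rw [Category.assoc, ← adj.counit_naturality, ← Category.assoc, ← F.map_comp,
    pullback.condition, F.map_comp, Category.assoc]
  exact (congrArg (F.map _ ≫ ·) (adj.left_triangle_components a)).trans (Category.comp_id _)

theorem mono_toImg (a : A) (T : Finset (Σ i, s i ⟶ F.obj a)) : Mono (toImg s adj a T) := by
  haveI : PreservesLimitsOfSize.{0, 0} G := adj.rightAdjoint_preservesLimits
  haveI : Mono (G.map (img s (F.obj a) T).arrow) := inferInstance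
  exact mono_of_mono_fac (toImg_arrow s adj a T)

variable {s} in
theorem isNoetherianObject_piece [F.Additive] (hsN : ∀ i, IsNoetherianObject (s i)) (a : A)
    (T : Finset (Σ i, s i ⟶ F.obj a)) : IsNoetherianObject (piece s adj a T) := by
  haveI := mono_toImg s adj a T
  haveI := isNoetherianObject_img s (F.obj a) hsN T
  haveI := isNoetherianObject_of_mono (toImg s adj a T)
  exact isNoetherianObject_of_map F _

variable [HasColimitsOfSize.{w, w} A] [AB5OfSize.{w, w} A]
  [PreservesFilteredColimitsOfSize.{w, w} G] {s}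
  (hsep : ∀ ⦃X Y : B⦄ (f g : X ⟶ Y), (∀ (i : ι) (h : s i ⟶ X), h ≫ f = h ≫ g) → f = g)

include hsep in
omit [F.Faithful] [PreservesFiniteLimits F] in
theorem piece_hom_ext (a : A) {Y : A} (f g : a ⟶ Y)
    (h : ∀ T, pullback.snd (G.map (img s (F.obj a) T).arrow) (adj.unit.app a) ≫ f =
      pullback.snd (G.map (img s (F.obj a) T).arrow) (adj.unit.app a) ≫ g) : f = g := by
  let hc := isColimitOfPreserves G (isColimitCc (F.obj a) hsep)
  refine (hc.pullbackOfHasExactColimitsOfShape (adj.unit.app a)).hom_ext fun T => ?_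
  rw [← cancel_epi (pullbackObjIso _ _ _).inv]
  simpa using! h T

include adj hsep in
theorem isNoetherianObject_map [F.Additive] (hsN : ∀ i, IsNoetherianObject (s i)) (a : A)
    [IsNoetherianObject a] : IsNoetherianObject (F.obj a) := by
  haveI := mono_unit adj a
  haveI : PreservesLimitsOfSize.{0, 0} G := adj.rightAdjoint_preservesLimits
  haveI : ∀ T, Mono (pullback.snd (G.map (img s (F.obj a) T).arrow) (adj.unit.app a)) :=
    fun T => inferInstance
  let M : Finset (Σ i, s i ⟶ F.obj a) → Subobject a := fun T =>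
    Subobject.mk (pullback.snd (G.map (img s (F.obj a) T).arrow) (adj.unit.app a))
  have hM : Monotone M := fun T T' hT => Subobject.mk_le_mk_of_comm
    (pullback.map _ _ _ _ (G.map (Subobject.ofLE _ _ (img_mono s _ hT))) (𝟙 _) (𝟙 _)
      (by rw [Category.comp_id, ← G.map_comp, Subobject.ofLE_arrow]) (by simp))
    ((pullback.lift_snd _ _ _).trans (Category.comp_id _))
  obtain ⟨m, ⟨T₀, rfl⟩, hmax⟩ := wellFounded_gt.has_min (Set.range M) (Set.range_nonempty _)
  let p := pullback.snd (G.map (img s (F.obj a) T₀).arrow) (adj.unit.app a)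
  haveI : Epi p := ⟨fun f g hfg => piece_hom_ext adj hsep a f g fun T => by
    classical
    have h1 : M (T₀ ∪ T) = M T₀ := by
      rcases (hM (show T₀ ≤ T₀ ∪ T from Finset.subset_union_left)).lt_or_eq with h | h
      · exact absurd h (hmax _ ⟨_, rfl⟩)
      · exact h.symm
    have h2 : M T ≤ M T₀ := h1 ▸ hM (show T ≤ T₀ ∪ T from Finset.subset_union_right)
    rw [← Subobject.ofMkLEMk_comp h2, Category.assoc, Category.assoc, hfg]⟩
  haveI : IsIso p := isIso_of_mono_of_epi p
  haveI := mono_toImg s adj a T₀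
  haveI := isNoetherianObject_img s (F.obj a) hsN T₀
  haveI : Mono (inv (F.map p) ≫ toImg s adj a T₀) := mono_comp _ _
  exact isNoetherianObject_of_mono (inv (F.map p) ≫ toImg s adj a T₀)

include adj hsep in
/-- A small family of generators, each of them isomorphic to a piece. -/
theorem exists_generators [WellPowered.{w} A] [WellPowered.{w} B] :
    ∃ (κ : Type w) (t : κ → A),
      (∀ k, ∃ (a : A) (T : Finset (Σ i, s i ⟶ F.obj a)), Nonempty (t k ≅ piece s adj a T)) ∧
        ∀ ⦃X Y : A⦄ (f g : X ⟶ Y), (∀ (k : κ) (h : t k ⟶ X), h ≫ f = h ≫ g) → f = g := by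
  let Q : (Σ n : ℕ, Fin n → ι) → B := fun nk => ∐ fun j => s (nk.2 j)
  let b : (Σ nk, Shrink.{w} (Subobject (Q nk))) → B := fun x =>
    cokernel ((equivShrink _).symm x.2).arrow
  let κ₀ := Σ x, Shrink.{w} (Subobject (G.obj (b x)))
  let t₀ : κ₀ → A := fun x => (((equivShrink _).symm x.2 : Subobject (G.obj (b x.1))) : A)
  refine ⟨{k : κ₀ // ∃ (a : A) (T : Finset (Σ i, s i ⟶ F.obj a)),
    Nonempty (t₀ k ≅ piece s adj a T)}, fun k => t₀ k.1, fun k => k.2, fun X Y f g hfg => ?_⟩
  refine piece_hom_ext adj hsep X f g fun T => ?_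
  obtain ⟨nk, l, hl⟩ := exists_epi_img s (F.obj X) T
  let x : Σ nk, Shrink.{w} (Subobject (Q nk)) := ⟨nk, equivShrink _ (kernelSubobject l)⟩
  have hx : (equivShrink _).symm x.2 = kernelSubobject l := Equiv.symm_apply_apply _ _
  obtain ⟨e⟩ : Nonempty (b x ≅ (img s (F.obj X) T : B)) := by
    dsimp only [b]
    rw [hx]
    exact ⟨cokernel.mapIso _ _ (kernelSubobjectIso l) (Iso.refl _) (by simp) ≪≫
      (cokernelIsCokernel (kernel.ι l)).coconePointUniqueUpToIso
        (Abelian.epiIsCokernelOfKernel _ (limit.isLimit (parallelPair l 0)))⟩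
  haveI := mono_unit adj X
  let m : piece s adj X T ⟶ G.obj (b x) := pullback.fst _ _ ≫ G.map e.inv
  let k₀ : κ₀ := ⟨x, equivShrink _ (Subobject.mk m)⟩
  have hk : (equivShrink _).symm k₀.2 = Subobject.mk m := Equiv.symm_apply_apply _ _
  let e' : t₀ k₀ ≅ piece s adj X T :=
    Subobject.isoOfEq _ _ hk ≪≫ Subobject.underlyingIso m
  rw [← cancel_epi e'.hom]
  simpa using hfg ⟨k₀, X, T, ⟨e'⟩⟩ (e'.hom ≫ pullback.snd _ _)

end Transfer

end GrothTransLib

namespace GrothTransLib

theorem wellPowered_of_family {B : Type u₂} [Category.{w} B] [Abelian B] {ι : Type w} (s : ι → B)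
    (hsep : ∀ ⦃X Y : B⦄ (f g : X ⟶ Y), (∀ (i : ι) (h : s i ⟶ X), h ≫ f = h ≫ g) → f = g) :
    WellPowered.{w} B :=
  wellPowered_of_isDetecting (𝒢 := ObjectProperty.ofObj s)
    (ObjectProperty.IsSeparating.isDetecting fun X Y f g hfg =>
      hsep f g fun i h => hfg (s i) ⟨i⟩ h)

end GrothTransLib
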